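import Cfsg.Agent.Lib.Known.ChevLift.Cover
import Cfsg.Agent.Lib.Chev.Perfect
import Cfsg.Agent.Lib.Known.ChevLift.TorusFam

/-!
# The group presented by additivity and the commutator relations

It maps onto the Steinberg group with central kernel and, under the usual conditions, is perfect.
-/

set_option autoImplicit false
set_option linter.unusedSectionVars false
set_option linter.style.haveILetI false

namespace CfsgLib.Chev.ScCover

open Cfsg.Lie CfsgLib.Chev.Lift
open scoped commutatorElement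

universe v

variable {D : ChevalleyDatum} {co : ℕ → ℕ → ℤ} {K : Type v} [Field K]

theorem stRels_mk (g : FreeGroup (Fin D.nroots × K)) :
    FreeGroup.lift (PresentedGroup.of (rels := D.steinbergRels K)) g =
      PresentedGroup.mk (D.steinbergRels K) g :=
  DFunLike.congr_fun (FreeGroup.ext_hom _ _ fun x => by simp [PresentedGroup.of] :
    FreeGroup.lift (PresentedGroup.of (rels := D.steinbergRels K)) = PresentedGroup.mk _) g

/-- Forgetting nothing: the map onto the group with all three families of relators. -/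
def toSt (D : ChevalleyDatum) (K : Type v) [Field K] : D.SteinbergCover K →* D.SteinbergGroup K :=
  PresentedGroup.toGroup (rels := D.steinbergRelsAB K) (f := PresentedGroup.of) fun g hg => by
    rw [stRels_mk]
    exact PresentedGroup.one_of_mem (by
      rcases hg with hg | hg
      · exact Or.inl (Or.inl hg)
      · exact Or.inl (Or.inr hg))

theorem toSt_gen (r : ℕ) (t : K) : toSt D K (D.scGen K r t) = D.stGen K r t := by
  by_cases hr : r < D.nroots
  · rw [show D.scGen K r t = PresentedGroup.of ((⟨r, hr⟩ : Fin D.nroots), t) by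
      simp [ChevalleyDatum.scGen, ChevalleyDatum.stX, hr, PresentedGroup.of],
      show D.stGen K r t = PresentedGroup.of ((⟨r, hr⟩ : Fin D.nroots), t) by
      simp [ChevalleyDatum.stGen, ChevalleyDatum.stX, hr, PresentedGroup.of]]
    exact PresentedGroup.toGroup.of _
  · simp [ChevalleyDatum.scGen, ChevalleyDatum.stGen, ChevalleyDatum.stX, hr]

theorem scGen_of {r : ℕ} (hr : r < D.nroots) (t : K) :
    PresentedGroup.of ((⟨r, hr⟩ : Fin D.nroots), t) = D.scGen K r t := by
  simp [ChevalleyDatum.scGen, ChevalleyDatum.stX, hr, PresentedGroup.of]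

theorem closure_scGen : Subgroup.closure {g : D.SteinbergCover K |
    ∃ (r : ℕ) (t : K), r < D.nroots ∧ g = D.scGen K r t} = ⊤ := by
  rw [eq_top_iff, ← PresentedGroup.closure_range_of, Subgroup.closure_le]
  rintro _ ⟨⟨⟨r, hr⟩, t⟩, rfl⟩
  exact Subgroup.subset_closure ⟨r, t, hr, scGen_of hr t⟩

theorem toSt_surjective : Function.Surjective (toSt D K) := by
  rw [← MonoidHom.range_eq_top, eq_top_iff, ← stClosure_top, stClosure, Subgroup.closure_le]
  rintro _ ⟨r, t, -, -, rfl⟩
  exact ⟨_, toSt_gen r t⟩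

theorem isRootFam_toSt : IsRootFam (toSt D K) (D.scGen K) :=
  ⟨fun r _ t => toSt_gen r t, fun _ hr t u => sc_add hr t u⟩

/-- The word `n_r(c)` of the generators. -/
def scNG (D : ChevalleyDatum) {K : Type v} [Field K] (r : ℕ) (c : K) : D.SteinbergCover K :=
  D.scGen K r c * D.scGen K (D.neg r) (-c⁻¹) * D.scGen K r c

theorem toSt_scNG (r : ℕ) (c : K) : toSt D K (scNG D r c) = stNG D r c := by
  simp only [scNG, stNG, map_mul, toSt_gen]

/-- Elements whose root subgroups lie in the commutator subgroup. -/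
def ScDerived (D : ChevalleyDatum) (K : Type v) [Field K] (r : ℕ) : Prop :=
  ∀ t : K, D.scGen K r t ∈ commutator (D.SteinbergCover K)

variable (hF : Facts D co) (hN : HasNbr D) (hL : LinCert D)
  {φ : D.SteinbergGroup K →* GL D.Idx K} (hφ : IsTheta D φ)
include hF hN hL hφ

theorem scNG_inv {r : ℕ} (hr : r < D.nroots) (c : K) : (scNG D r c)⁻¹ = scNG D r (-c) := by
  have hA := isRootFam_toSt (D := D) (K := K)
  simp [scNG, mul_inv_rev, fam_inv hA hr, fam_inv hA (hF.neg_lt hr), inv_neg, mul_assoc]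

theorem scNG_move {r : ℕ} (hr : r < D.nroots) {c : K} (hc : c ≠ 0) {s : ℕ} (hs : s < D.nroots)
    (t : K) : ∃ q < D.nroots, ∃ v : K,
      scNG D r c * D.scGen K s t * (scNG D r c)⁻¹ = D.scGen K q v := by
  have hA := isRootFam_toSt (D := D) (K := K)
  have hR : ∀ a b, OkPair D a b → RelAt D (D.scGen K) a b := fun _ _ hok => sc_rel hF hok
  by_cases h1 : s = r
  · subst h1
    exact ⟨_, hF.neg_lt hr, _, fam_weyl hA hF hφ hR hN hL hr hc t⟩
  by_cases h2 : s = D.neg r
  · subst h2
    refine ⟨r, hr, -(c ^ 2 * t), ?_⟩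
    have e : scNG D r (-c) * D.scGen K r (-(c ^ 2 * t)) * (scNG D r (-c))⁻¹ =
        D.scGen K (D.neg r) (-((-c)⁻¹ ^ 2 * -(c ^ 2 * t))) :=
      fam_weyl hA hF hφ hR hN hL hr (neg_ne_zero.2 hc) (-(c ^ 2 * t))
    rw [show -((-c)⁻¹ ^ 2 * -(c ^ 2 * t)) = t by field_simp,
      ← scNG_inv hF hN hL hφ hr c, inv_inv] at e
    rw [← e]; group
  · obtain ⟨q, hq, v, -, e⟩ := fam_transport hA hF hφ hR hr hc hs h1 h2 t
    exact ⟨q, hq, v, e⟩

theorem scGen_eq_of_toSt {q r : ℕ} (hq : q < D.nroots) (hr : r < D.nroots) {v w : K}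
    (h : D.stGen K q v = D.stGen K r w) : D.scGen K q v = D.scGen K r w := by
  have hA := isRootFam_toSt (D := D) (K := K)
  by_cases hw : w = 0
  · have hv : v = 0 := by
      by_contra hv
      exact stGen_ne_one hF hφ hq hv (h.trans (by rw [hw, stGen_zero hr]))
    rw [hv, hw, fam_zero hA hq, fam_zero hA hr]
  · obtain rfl := stGen_root_unique hF hφ hr hq hw h.symm
    rw [stGen_inj hF hφ hr h]

/-- The torus words act on the generators by characters. -/
theorem scHG_conj {k : ℕ} (hk : k < D.nroots) (x : Kˣ) {s : ℕ} (hs : s < D.nroots) (t : K) :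
    scNG D k (x : K) * scNG D k (-1) * D.scGen K s t * (scNG D k (x : K) * scNG D k (-1))⁻¹ =
      D.scGen K s (((x ^ prE D k s : Kˣ) : K) * t) := by
  obtain ⟨q₁, hq₁, v₁, e₁⟩ :=
    scNG_move hF hN hL hφ hk (c := (-1 : K)) (neg_ne_zero.2 one_ne_zero) hs t
  obtain ⟨q, hq, v, e₂⟩ := scNG_move hF hN hL hφ hk x.ne_zero hq₁ v₁
  have e : scNG D k (x : K) * scNG D k (-1) * D.scGen K s t *
      (scNG D k (x : K) * scNG D k (-1))⁻¹ = D.scGen K q v := by
    rw [← e₂, ← e₁]; group
  rw [e]
  refine scGen_eq_of_toSt hF hN hL hφ hq hs ?_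
  have := congrArg (toSt D K) e
  simp only [map_mul, map_inv, toSt_gen, toSt_scNG] at this
  rw [← this]
  exact stHG_conj hF hN hφ hk x hs t

/-- The kernel of the map onto the Steinberg group is central. -/
theorem toSt_ker_le : (toSt D K).ker ≤ Subgroup.center (D.SteinbergCover K) := by
  set Z := Subgroup.center (D.SteinbergCover K)
  have hcen : ∀ z : D.SteinbergCover K, (∀ (s : ℕ) (t : K), s < D.nroots →
      z * D.scGen K s t * z⁻¹ = D.scGen K s t) → z ∈ Z := by
    intro z hz
    have hle : (⊤ : Subgroup (D.SteinbergCover K)) ≤ Subgroup.centralizer {z} := by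
      rw [← closure_scGen, Subgroup.closure_le]
      rintro _ ⟨s, t, hs, rfl⟩
      exact Subgroup.mem_centralizer_singleton_iff.2 (mul_inv_eq_iff_eq_mul.1 (hz s t hs)).symm
    exact Subgroup.mem_center_iff.2 fun g =>
      Subgroup.mem_centralizer_singleton_iff.1 (hle (Subgroup.mem_top g))
  let q : Fin D.nroots × K → D.SteinbergCover K ⧸ Z := fun p =>
    QuotientGroup.mk' Z (PresentedGroup.of p)
  have hlift : FreeGroup.lift q = (QuotientGroup.mk' Z).comp (PresentedGroup.mk (D.steinbergRelsAB K)) :=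
    FreeGroup.ext_hom _ _ fun p => by simp [q, PresentedGroup.of]
  have hrels : ∀ g ∈ D.steinbergRels K, FreeGroup.lift q g = 1 := by
    intro g hg
    rw [hlift, MonoidHom.comp_apply]
    rcases hg with (hg | hg) | ⟨r, t₁, t₂, hr, ht₁, ht₂, rfl⟩
    · rw [PresentedGroup.one_of_mem (rels := D.steinbergRelsAB K) (Or.inl hg), map_one]
    · rw [PresentedGroup.one_of_mem (rels := D.steinbergRelsAB K) (Or.inr hg), map_one]
    rw [QuotientGroup.mk'_apply, QuotientGroup.eq_one_iff]
    have hH : ∀ c : K, PresentedGroup.mk (D.steinbergRelsAB K) (D.stH r c) =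
        scNG D r c * scNG D r (-1) := by
      intro c
      simp [ChevalleyDatum.stH, ChevalleyDatum.stWord, ChevalleyDatum.hWord, ChevalleyDatum.nWord,
        scNG, ChevalleyDatum.scGen, mul_assoc]
    rw [map_mul, map_mul, map_inv, hH, hH, hH]
    refine hcen _ fun s t hs => ?_
    obtain ⟨a, rfl⟩ : ∃ a : Kˣ, (a : K) = t₁ := ⟨Units.mk0 t₁ ht₁, rfl⟩
    obtain ⟨b, rfl⟩ : ∃ b : Kˣ, (b : K) = t₂ := ⟨Units.mk0 t₂ ht₂, rfl⟩
    rw [← Units.val_mul]
    have key := fun (x : Kˣ) (u : K) => scHG_conj hF hN hL hφ hr x hs u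
    have hA' := key a
    have hB' := key b
    set e := D.scGen K s with he
    set A₁ := scNG D r (a : K) * scNG D r (-1) with hA₁
    set B₁ := scNG D r (b : K) * scNG D r (-1) with hB₁
    set C₁ := scNG D r ((a * b : Kˣ) : K) * scNG D r (-1) with hC₁
    have hC : C₁⁻¹ * e t * C₁ = e ((((a * b) ^ prE D r s)⁻¹ : Kˣ) * t) := by
      have := key (a * b) (((((a * b) ^ prE D r s)⁻¹ : Kˣ) : K) * t)
      rw [← hC₁, Units.mul_inv_cancel_left] at this
      rw [← this]
      simp only [← mul_assoc, inv_mul_cancel, one_mul, inv_mul_cancel_right]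
    calc A₁ * B₁ * C₁⁻¹ * e t * (A₁ * B₁ * C₁⁻¹)⁻¹
        = A₁ * (B₁ * (C₁⁻¹ * e t * C₁) * B₁⁻¹) * A₁⁻¹ := by group
      _ = e t := by
        rw [hC, hB', hA', ← mul_assoc, ← mul_assoc, ← Units.val_mul, ← Units.val_mul, ← mul_zpow,
          mul_inv_cancel, Units.val_one, one_mul]
  intro z hz
  have h1 : (PresentedGroup.toGroup hrels).comp (toSt D K) = QuotientGroup.mk' Z :=
    PresentedGroup.ext fun ⟨⟨r, hr⟩, t⟩ => by
      rw [MonoidHom.comp_apply, scGen_of hr, toSt_gen,
        show D.stGen K r t = PresentedGroup.of ((⟨r, hr⟩ : Fin D.nroots), t) by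
          simp [ChevalleyDatum.stGen, ChevalleyDatum.stX, hr, PresentedGroup.of],
        PresentedGroup.toGroup.of, ← scGen_of hr]
  have h2 := DFunLike.congr_fun h1 z
  rw [MonoidHom.comp_apply, MonoidHom.mem_ker.1 hz, map_one] at h2
  exact (QuotientGroup.eq_one_iff z).1 h2.symm

theorem derived_torus {r : ℕ} (hr : r < D.nroots)
    (h : ∃ k < D.nroots, ∃ x : Kˣ, x ^ prE D k r ≠ 1) : ScDerived D K r := by
  obtain ⟨k, hk, x, hx⟩ := h
  intro t
  have hA := isRootFam_toSt (D := D) (K := K)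
  have hl : ((x ^ prE D k r : Kˣ) : K) - 1 ≠ 0 := fun e =>
    hx (Units.ext (by simpa using sub_eq_zero.1 e))
  have e : ⁅scNG D k (x : K) * scNG D k (-1),
      D.scGen K r (t / (((x ^ prE D k r : Kˣ) : K) - 1))⁆ = D.scGen K r t := by
    rw [commutatorElement_def, scHG_conj hF hN hL hφ hk x hr, fam_inv hA hr, ← sc_add hr]
    congr 1
    field_simp
    ring
  rw [← e]
  exact Subgroup.commutator_mem_commutator (Subgroup.mem_top _) (Subgroup.mem_top _)

theorem derived_single {r s k : ℕ} {C : ℤ} (hok : OkPair D r s) (hC1 : C = 1 ∨ C = -1)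
    (hT : D.commTerms r s = [(k, C, 1, 1)]) : ScDerived D K k := by
  intro t
  have h := sc_rel hF hok (1 : K) (-((C : K) * t))
  have e : eW (D.scGen K) (cwR D r s (1 : K) (-((C : K) * t))) = D.scGen K k t := by
    have h2 : (C : K) * (C : K) = 1 := by rcases hC1 with rfl | rfl <;> simp
    simp only [cwR, hT, List.map_cons, List.map_nil, eW, List.prod_cons, List.prod_nil, mul_one,
      pow_one]
    congr 1
    linear_combination t * h2
  have e' : D.scGen K k t = ⁅(D.scGen K s (-((C : K) * t)))⁻¹, (D.scGen K r (1 : K))⁻¹⁆ := by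
    rw [← e, commutatorElement_def, inv_inv, inv_inv,
      mul_assoc _ (D.scGen K s (-((C : K) * t))), h]
    group
  rw [e']
  exact Subgroup.commutator_mem_commutator (Subgroup.mem_top _) (Subgroup.mem_top _)

theorem derived_double {r s k k' : ℕ} {C C' : ℤ} {i j : ℕ} (hok : OkPair D r s)
    (hij : i = 1 ∨ j = 1) (hC1 : C' = 1 ∨ C' = -1)
    (hT : D.commTerms r s = [(k, C, 1, 1), (k', C', i, j)]) (hk1 : ScDerived D K k) :
    ScDerived D K k' := by
  intro t
  have h2 : (C' : K) * (C' : K) = 1 := by rcases hC1 with rfl | rfl <;> simp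
  obtain ⟨a, b, hab⟩ : ∃ a b : K, (C' : K) * (-a) ^ i * b ^ j = t := by
    rcases hij with rfl | rfl
    · refine ⟨-((C' : K) * t), 1, ?_⟩
      rw [neg_neg, pow_one, one_pow, mul_one, ← mul_assoc, h2, one_mul]
    · refine ⟨-1, (C' : K) * t, ?_⟩
      rw [neg_neg, one_pow, mul_one, pow_one, ← mul_assoc, h2, one_mul]
  have h := sc_rel hF hok a b
  have e : eW (D.scGen K) (cwR D r s a b) =
      D.scGen K k ((C : K) * (-a) ^ 1 * b ^ 1) * D.scGen K k' t := by
    simp only [cwR, hT, List.map_cons, List.map_nil, eW, List.prod_cons, List.prod_nil, mul_one, hab]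
  have e' : D.scGen K k' t = (D.scGen K k ((C : K) * (-a) ^ 1 * b ^ 1))⁻¹ *
      ⁅(D.scGen K s b)⁻¹, (D.scGen K r a)⁻¹⁆ := by
    rw [commutatorElement_def, inv_inv, inv_inv, mul_assoc _ (D.scGen K s b), h, e]
    group
  rw [e']
  exact Subgroup.mul_mem _ (Subgroup.inv_mem _ (hk1 _))
    (Subgroup.commutator_mem_commutator (Subgroup.mem_top _) (Subgroup.mem_top _))

theorem derived_refl {i r : ℕ} (hi : i < D.rank) (hr : r < D.nroots) (h : ScDerived D K r) :
    ScDerived D K (D.reflectRoot i r) := by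
  intro t
  obtain ⟨c, hm⟩ := exists_moves_simple hF hN hφ hi (K := K)
  have hp := hF.simple_lt' hi
  have e1 := hm.2 ⟨r, hr⟩ (t / c ⟨r, hr⟩)
  rw [mul_div_cancel₀ _ (hm.1 _), hF.sP_val] at e1
  obtain ⟨q, hq, v, e⟩ := scNG_move hF hN hL hφ hp one_ne_zero hr (t / c ⟨r, hr⟩)
  have e2 := congrArg (toSt D K) e
  simp only [map_mul, map_inv, toSt_gen, toSt_scNG] at e2
  rw [← scGen_eq_of_toSt hF hN hL hφ hq (hF.refl_lt i hi r hr) (e2.symm.trans e1), ← e]
  exact (inferInstance : (commutator (D.SteinbergCover K)).Normal).conj_mem _ (h _) _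

theorem perfect_of_simple_derived (h : ∀ i < D.rank, ScDerived D K (D.simple i)) :
    commutator (D.SteinbergCover K) = ⊤ := by
  rw [eq_top_iff, ← closure_scGen, Subgroup.closure_le]
  rintro _ ⟨r, t, hr, rfl⟩
  exact hF.root_induction (P := ScDerived D K) h
    (fun i hi s hs ih => derived_refl hF hN hL hφ hi hs ih) hr t

theorem perfect_singleStep (h : CfsgLib.Chev.SingleStep D) : commutator (D.SteinbergCover K) = ⊤ := by
  refine perfect_of_simple_derived hF hN hL hφ fun i hi => ?_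
  obtain ⟨j, hj, hb⟩ := h i hi
  simp only [stepB, Bool.and_eq_true, Bool.or_eq_true, bne_iff_ne, beq_iff_eq] at hb
  obtain ⟨⟨h1, h2⟩, h3⟩ := hb
  have hp := hF.simple_lt' hi
  have hok : OkPair D (D.simple i) (D.simple j) := ⟨hp, hF.simple_lt' hj, h1, h2⟩
  have hk : ScDerived D K (D.reflectRoot j (D.simple i)) := by
    rcases h3 with h3 | h3
    · exact derived_single hF hN hL hφ hok (Or.inl rfl) h3
    · exact derived_single hF hN hL hφ hok (Or.inr rfl) h3
  have := derived_refl hF hN hL hφ hj (hF.refl_lt j hj _ hp) hk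
  rwa [hF.refl_invol j hj _ hp] at this

theorem perfect_unitPairing (h : CfsgLib.Chev.UnitPairing D) (hq : ∃ a : K, a ≠ 0 ∧ a ≠ 1) :
    commutator (D.SteinbergCover K) = ⊤ := by
  obtain ⟨a, ha0, ha1⟩ := hq
  refine perfect_of_simple_derived hF hN hL hφ fun i hi => ?_
  obtain ⟨k, hk, hp⟩ := h i hi
  refine derived_torus hF hN hL hφ (hF.simple_lt' hi) ⟨k, hk, Units.mk0 a ha0, ?_⟩
  rcases hp with h | h <;> rw [h] <;> simp [Units.ext_iff, ha1]

end CfsgLib.Chev.ScCover
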