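import Cfsg.Agent.Lib.KnownSimple.SteinbergCover.Closed
import Cfsg.Agent.Lib.Known.ChevLift.Cover
import Cfsg.Agent.Lib.Known.ChevLift.TorusTypes
import Cfsg.Agent.Lib.Known.ChevLift.TorusB2
import Cfsg.Agent.Lib.Known.ChevLift.D4
import Cfsg.Agent.Lib.Known.ChevLift.E6
import Cfsg.Agent.Lib.Known.ChevLift.E7
import Cfsg.Agent.Lib.Known.ChevLift.E8
import Cfsg.Agent.Lib.KnownSimple.SteinbergCover.Check.PairD4
import Cfsg.Agent.Lib.KnownSimple.SteinbergCover.Check.PairE6
import Cfsg.Agent.Lib.KnownSimple.SteinbergCover.Check.PairE7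
import Cfsg.Agent.Lib.KnownSimple.SteinbergCover.Check.PairE8

/-!
# Torus certificates good for every field with more than four elements
-/

set_option autoImplicit false
set_option maxRecDepth 20000

namespace CfsgLib.Chev.ScCover

open Cfsg.Lie CfsgLib.Chev.Table CfsgLib.Chev.Lift

/-- The combinatorial hypotheses for the large field argument. -/
structure BigCert (D : ChevalleyDatum) : Prop where
  closed : ClosedCert D
  pair : PairBig D 3
  moving : ∀ r < D.nroots, ∃ k < D.nroots, prE D k r ≠ 0 ∧ (prE D k r).natAbs ≤ 3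
  self : ∀ r < D.nroots, Lift.UnitPairing D r ∨ GenCert D false r

theorem PairBig.mono {D : ChevalleyDatum} {m n : ℕ} (h : PairBig D m) (hmn : m ≤ n) : PairBig D n := by
  intro r s hok
  exact (h r s hok).imp (fun ⟨k, hk, a, b, c⟩ => ⟨k, hk, a, b, c.trans hmn⟩)
    fun ⟨k, hk, a, b, c⟩ => ⟨k, hk, a, b, c.trans hmn⟩

theorem moving_of_unitPairing {D : ChevalleyDatum} (h : ∀ r < D.nroots, Lift.UnitPairing D r) :
    ∀ r < D.nroots, ∃ k < D.nroots, prE D k r ≠ 0 ∧ (prE D k r).natAbs ≤ 3 := by
  intro r hr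
  obtain ⟨k, hk, h1⟩ := h r hr
  exact ⟨k, hk, by simp [h1], by simp [h1]⟩

theorem chkUnitPairing_D4 : DataD4.tab.chkUnitPairing = true := by decide +kernel
theorem chkUnitPairing_E6 : DataE6.tab.chkUnitPairing = true := by decide +kernel
theorem chkUnitPairing_E7 : DataE7.tab.chkUnitPairing = true := by decide +kernel
theorem chkUnitPairing_E8 : DataE8.tab.chkUnitPairing = true := by decide +kernel

theorem bigCert_laced {D : ChevalleyDatum} {co : ℕ → ℕ → ℤ} {T : Tab} (hA : T.chkArrays D = true)
    (hC : T.chkChain D = true) (hP : T.chkPairs = true) (hF : Facts D co) (hu : T.chkUnit = true)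
    (hp : T.chkUnitPairing = true) (hb : PairBig D 2) : BigCert D where
  closed := closedCert_of_chkUnit hA hC hP hF hu
  pair := PairBig.mono hb (by norm_num)
  moving := moving_of_unitPairing (unitPairing_of_chk hA hp)
  self r hr := Or.inl (unitPairing_of_chk hA hp r hr)

theorem bigCert_G2 : BigCert chevG2 where
  closed := closedCert_of_chk DataG2.chk_arrays DataG2.chk_chain DataG2.facts chkClosed_G2
  pair := pairBig_of_chk DataG2.chk_arrays chkPairBig_G2
  moving := moving_of_unitPairing (unitPairing_of_chk DataG2.chk_arrays chkUnitPairing_G2)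
  self r hr := Or.inl (unitPairing_of_chk DataG2.chk_arrays chkUnitPairing_G2 r hr)

theorem bigCert_F4 : BigCert chevF4 where
  closed := closedCert_of_chk DataF4.chk_arrays DataF4.chk_chain DataF4.facts chkClosed_F4
  pair := PairBig.mono (pairBig_of_chk DataF4.chk_arrays chkPairBig_F4) (by norm_num)
  moving := moving_of_unitPairing (unitPairing_of_chk DataF4.chk_arrays chkUnitPairing_F4)
  self r hr := Or.inr (genCert_of_genB DataF4.chk_arrays DataF4.chk_chain DataF4.facts hr
    (allBelow_spec chkGen_F4 r (nroots_eq DataF4.chk_arrays ▸ hr)))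

theorem bigCert_B2 : BigCert chevB2 where
  closed := closedCert_of_chk DataB2.chk_arrays DataB2.chk_chain DataB2.facts chkClosed_B2
  pair := PairBig.mono (pairBig_of_chk DataB2.chk_arrays chkPairBig_B2) (by norm_num)
  moving r hr := by
    obtain ⟨k, hk, h⟩ := anyBelow_spec (allBelow_spec chkMoving_B2 r (nroots_eq DataB2.chk_arrays ▸ hr))
    have hkn : k < chevB2.nroots := (nroots_eq DataB2.chk_arrays).symm ▸ hk
    simp only [Bool.and_eq_true, Bool.not_eq_true', beq_eq_false_iff_ne, ne_eq, Nat.ble_eq] at h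
    rw [← pr_eq DataB2.chk_arrays hkn hr] at h
    exact ⟨k, hkn, h.1, by omega⟩
  self r hr := by
    have h := allBelow_spec chkSelf_B2 r (nroots_eq DataB2.chk_arrays ▸ hr)
    rw [Bool.or_eq_true, Bool.and_eq_true] at h
    rcases h with h | ⟨-, hu⟩
    · exact Or.inr (genCert_of_genB DataB2.chk_arrays DataB2.chk_chain DataB2.facts hr h)
    · obtain ⟨k, hk, hk'⟩ := anyBelow_spec hu
      have hkn : k < chevB2.nroots := (nroots_eq DataB2.chk_arrays).symm ▸ hk
      exact Or.inl ⟨k, hkn, by rw [pr_eq DataB2.chk_arrays hkn hr]; exact beq_iff_eq.1 hk'⟩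

theorem bigCert_of_mem {D : ChevalleyDatum}
    (hD : D ∈ [chevG2, chevB2, chevD4, chevF4, chevE6, chevE7, chevE8]) : BigCert D := by
  simp only [List.mem_cons, List.not_mem_nil, or_false] at hD
  rcases hD with rfl | rfl | rfl | rfl | rfl | rfl | rfl
  · exact bigCert_G2
  · exact bigCert_B2
  · exact bigCert_laced DataD4.chk_arrays DataD4.chk_chain DataD4.chk_pairs DataD4.facts chkUnit_D4
      chkUnitPairing_D4 pairBig_D4
  · exact bigCert_F4
  · exact bigCert_laced DataE6.chk_arrays DataE6.chk_chain DataE6.chk_pairs DataE6.facts chkUnit_E6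
      chkUnitPairing_E6 pairBig_E6
  · exact bigCert_laced DataE7.chk_arrays DataE7.chk_chain DataE7.chk_pairs DataE7.facts chkUnit_E7
      chkUnitPairing_E7 pairBig_E7
  · exact bigCert_laced DataE8.chk_arrays DataE8.chk_chain DataE8.chk_pairs DataE8.facts chkUnit_E8
      chkUnitPairing_E8 pairBig_E8

end CfsgLib.Chev.ScCover
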