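import Cfsg.Agent.Lib.KnownSimple.SteinbergCover.Perfect

/-!
# General lemmas on central extensions of perfect groups
-/

set_option autoImplicit false

namespace CfsgLib.Chev.ScCover

open scoped commutatorElement

variable {A X P : Type*} [Group A] [Group X] [Group P]

/-- Homomorphisms out of a perfect group agreeing modulo the centre are equal. -/
theorem eq_of_central_diff (hperf : commutator A = ⊤) {f g : A →* X}
    (h : ∀ a, (f a)⁻¹ * g a ∈ Subgroup.center X) : f = g := by
  let c : A →* Subgroup.center X := MonoidHom.mk' (fun a => ⟨(f a)⁻¹ * g a, h a⟩) fun a b =>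
    Subtype.ext (by
      have hc := Subgroup.mem_center_iff.1 (h a) (f b)⁻¹
      show (f (a * b))⁻¹ * g (a * b) = (f a)⁻¹ * g a * ((f b)⁻¹ * g b)
      rw [map_mul, map_mul, ← mul_assoc ((f a)⁻¹ * g a), ← hc]
      group)
  have hle : commutator A ≤ c.ker := by
    rw [commutator_def, Subgroup.commutator_le]
    intro a _ b _
    rw [MonoidHom.mem_ker, map_commutatorElement, commutatorElement_eq_one_iff_mul_comm]
    exact Subtype.ext (Subgroup.mem_center_iff.1 (c b).2 (c a : X))
  refine MonoidHom.ext fun a => ?_
  have h1 : (f a)⁻¹ * g a = 1 :=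
    congrArg Subtype.val (MonoidHom.mem_ker.1 (hle (hperf ▸ Subgroup.mem_top a)))
  exact inv_mul_eq_one.1 h1

/-- In a central extension of a perfect group the commutator subgroup is a perfect extension. -/
theorem perfect_commutator {p : X →* P} (hp : Function.Surjective p)
    (hc : p.ker ≤ Subgroup.center X) (hperf : commutator P = ⊤) :
    Function.Surjective (p.comp (commutator X).subtype) ∧
      (p.comp (commutator X).subtype).ker ≤ Subgroup.center ↥(commutator X) ∧
        commutator ↥(commutator X) = ⊤ := by
  have hs : Function.Surjective (p.comp (commutator X).subtype) := by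
    rw [← MonoidHom.range_eq_top, MonoidHom.range_comp, Subgroup.range_subtype, commutator_def,
      Subgroup.map_commutator, Subgroup.map_top_of_surjective p hp, ← commutator_def, hperf]
  refine ⟨hs, fun z hz => Subgroup.mem_center_iff.2 fun y =>
    Subtype.ext (Subgroup.mem_center_iff.1 (hc (x := z.1) hz) y.1), ?_⟩
  have key : ∀ a b : X, ⁅a, b⁆ ∈ (commutator ↥(commutator X)).map (commutator X).subtype := by
    intro a b
    obtain ⟨a', ha⟩ := hs (p a)
    obtain ⟨b', hb⟩ := hs (p b)
    refine ⟨⁅a', b'⁆, Subgroup.commutator_mem_commutator (Subgroup.mem_top _) (Subgroup.mem_top _), ?_⟩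
    rw [map_commutatorElement]
    show ⁅a'.1, b'.1⁆ = ⁅a, b⁆
    rw [CfsgLib.Known.SL2Lift.comm_central_left hc (show p a'.1 = p a from ha),
      CfsgLib.Known.SL2Lift.comm_central_right hc (show p b'.1 = p b from hb)]
  have hle : commutator X ≤ (commutator ↥(commutator X)).map (commutator X).subtype := by
    conv_lhs => rw [commutator_def]
    exact Subgroup.commutator_le.2 fun a _ b _ => key a b
  rw [eq_top_iff]
  intro x _
  obtain ⟨y, hy, hxy⟩ := hle x.2
  rwa [← Subtype.ext hxy]

end CfsgLib.Chev.ScCover
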