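import Cfsg.Agent.Lib.Known.ChevLift.Certificates
import Cfsg.Agent.Lib.Known.ChevLift.TorusCheck

/-!
# Closedness of the commutator formulas of a simply laced datum
-/

set_option autoImplicit false

namespace CfsgLib.Chev.Lift

open Cfsg.Lie CfsgLib.Chev.Table

variable {D : ChevalleyDatum} {co : ℕ → ℕ → ℤ} {T : Tab}
  (hA : T.chkArrays D = true) (hC : T.chkChain D = true) (hP : T.chkPairs = true) (hF : Facts D co)
include hA hC hP hF

theorem closedCert_of_chkUnit (h : T.chkUnit = true) : ClosedCert D := by
  have hU := unitChains_of_chk hA hC hP h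
  intro r s hok z hz p hp q hq hqp
  obtain ⟨hr, hs, -, -⟩ := id hok
  rcases hk : tgt D r s with _ | k
  · simp only [termRoots, commTerms_none hF hU hr hs hk, List.map_nil, List.mem_singleton] at hp hq
    exact absurd (hq.trans hp.symm) hqp
  have hk' : tgt D s r = some k := by rw [(hF.tgt_symm r hr s hs).1, hk]
  have hkn := (valid_of_tgt hF hU hr hs hk).2
  have hstep : ∀ a b, a < D.nroots → b < D.nroots → tgt D a b = some k → tgt D a k = none := by
    intro a b ha hb hab
    rw [tgt_eq hA hC ha hkn]
    rw [tgt_eq hA hC ha hb] at hab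
    by_cases h0 : T.ent a b = 0
    · simp [Tab.tg, h0] at hab
    rw [tg_of_ne h0, Option.some.injEq] at hab
    have hc := allBelow_spec (allBelow_spec h a (nroots_eq hA ▸ ha)) b (nroots_eq hA ▸ hb)
    rw [beq_eq_false_iff_ne.2 h0, cond_false, Bool.and_eq_true, beq_iff_eq, beq_iff_eq] at hc
    exact tg_of_eq (hab ▸ hc.1)
  have hz' : z < D.nroots ∧ tgt D z k = none := by
    rcases hz with rfl | rfl
    · exact ⟨hr, hstep _ s hr hs hk⟩
    · exact ⟨hs, hstep _ r hs hr hk'⟩
  have hz2 : tgt D k z = none := by rw [(hF.tgt_symm z hz'.1 k hkn).1, hz'.2]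
  simp only [termRoots, commTerms_some hF hU hr hs hk, List.map_cons, List.map_nil, List.mem_cons,
    List.not_mem_nil, or_false, List.length_singleton] at hp hq ⊢
  rcases hp with rfl | rfl <;> rcases hq with rfl | rfl <;>
    first
    | exact absurd rfl hqp
    | (rw [commTerms_none hF hU hz'.1 hkn hz'.2]; simp)
    | (rw [commTerms_none hF hU hkn hz'.1 hz2]; simp)

end CfsgLib.Chev.Lift
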