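import Cfsg.Agent.Lib.KnownSimple.SteinbergCover.Basic

/-!
# Perfectness of the group presented by (R1), (R2) for the tabulated types, and central lemmas
-/

set_option autoImplicit false
set_option linter.unusedSectionVars false

namespace CfsgLib.Chev.ScCover

open Cfsg.Lie CfsgLib.Chev.Lift
open scoped commutatorElement

universe v

variable {K : Type v} [Field K]

theorem perfect_B2 (hq : ∃ a : K, a ≠ 0 ∧ a ≠ 1) : commutator (chevB2.SteinbergCover K) = ⊤ := by
  have hD : chevB2 ∈ [chevG2, chevB2, chevD4, chevF4, chevE6, chevE7, chevE8] := by simp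
  obtain ⟨⟨co, hF⟩, hC⟩ := good_B2.{v}
  obtain ⟨φ, hφ⟩ := hF.exists_theta hC (K := K)
  have hN := hasNbr_of_mem hD
  have hL := linCert_of_mem hD
  obtain ⟨a, ha0, ha1⟩ := hq
  have hlt0 : chevB2.simple 0 < chevB2.nroots := by decide +kernel
  have hlt1 : chevB2.simple 1 < chevB2.nroots := by decide +kernel
  have hr : (1 : ℕ) < chevB2.rank := by decide +kernel
  have hr0 : (0 : ℕ) < chevB2.rank := by decide +kernel
  have h0 : ScDerived chevB2 K (chevB2.simple 0) := by
    refine derived_torus hF hN hL hφ hlt0 ⟨chevB2.simple 1, hlt1, Units.mk0 a ha0, ?_⟩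
    rcases (show prE chevB2 (chevB2.simple 1) (chevB2.simple 0) = 1 ∨
        prE chevB2 (chevB2.simple 1) (chevB2.simple 0) = -1 by decide +kernel) with h | h <;>
      rw [h] <;> simp [Units.ext_iff, ha1]
  have h6 := derived_refl hF hN hL hφ hr hlt0 h0
  have h7 : ScDerived chevB2 K (chevB2.reflectRoot 0 (chevB2.simple 1)) :=
    derived_double hF hN hL hφ (r := chevB2.simple 0) (s := chevB2.simple 1)
      (k := chevB2.reflectRoot 1 (chevB2.simple 0)) (C := -1) (C' := -1) (i := 2) (j := 1)
      ⟨hlt0, hlt1, by decide +kernel, by decide +kernel⟩ (Or.inr rfl) (Or.inr rfl)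
      (by decide +kernel) h6
  have h1 := derived_refl hF hN hL hφ hr0 (hF.refl_lt 0 hr0 _ hlt1) h7
  rw [hF.refl_invol 0 hr0 _ hlt1] at h1
  refine perfect_of_simple_derived hF hN hL hφ fun i hi => ?_
  have : i = 0 ∨ i = 1 := by
    have e : chevB2.rank = 2 := rfl
    omega
  rcases this with rfl | rfl
  · exact h0
  · exact h1

theorem perfect_of_mem {D : ChevalleyDatum}
    (hD : D ∈ [chevG2, chevB2, chevD4, chevF4, chevE6, chevE7, chevE8])
    (hK : D ∈ [chevB2, chevG2] → ∃ x : K, x ≠ 0 ∧ x ≠ 1) :
    commutator (D.SteinbergCover K) = ⊤ := by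
  obtain ⟨⟨co, hF⟩, hC⟩ := good_of_mem.{v} hD
  obtain ⟨φ, hφ⟩ := hF.exists_theta hC (K := K)
  have hN := hasNbr_of_mem hD
  have hL := linCert_of_mem hD
  simp only [List.mem_cons, List.not_mem_nil, or_false] at hD
  rcases hD with rfl | rfl | rfl | rfl | rfl | rfl | rfl
  · exact perfect_unitPairing hF hN hL hφ unitPairing_G2 (hK (by simp))
  · exact perfect_B2 (hK (by simp))
  · exact perfect_singleStep hF hN hL hφ singleStep_D4
  · exact perfect_singleStep hF hN hL hφ singleStep_F4
  · exact perfect_singleStep hF hN hL hφ singleStep_E6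
  · exact perfect_singleStep hF hN hL hφ singleStep_E7
  · exact perfect_singleStep hF hN hL hφ singleStep_E8

/-- An element whose commutators with everything are central is central, in a perfect group. -/
theorem central_of_perfect {G : Type*} [Group G] (hperf : commutator G = ⊤) {z : G}
    (hz : ∀ g : G, ⁅z, g⁆ ∈ Subgroup.center G) : z ∈ Subgroup.center G := by
  let f : G →* Subgroup.center G :=
    MonoidHom.mk' (fun g => ⟨⁅z, g⁆, hz g⟩) fun g h => Subtype.ext (by
      show ⁅z, g * h⁆ = ⁅z, g⁆ * ⁅z, h⁆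
      have hc := (Subgroup.mem_center_iff.1 (hz h) g).symm
      have e : ⁅z, g * h⁆ = ⁅z, g⁆ * (g * ⁅z, h⁆ * g⁻¹) := by
        simp only [commutatorElement_def]; group
      rw [e, ← hc, mul_inv_cancel_right])
  have hle : commutator G ≤ f.ker := by
    rw [commutator_def, Subgroup.commutator_le]
    intro a _ b _
    rw [MonoidHom.mem_ker, map_commutatorElement, commutatorElement_eq_one_iff_mul_comm]
    exact Subtype.ext ((Subgroup.mem_center_iff.1 (f b).2 (f a : G)))
  refine Subgroup.mem_center_iff.2 fun g => ?_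
  have h1 : g ∈ f.ker := hle (hperf ▸ Subgroup.mem_top g)
  have h2 : ⁅z, g⁆ = 1 := congrArg Subtype.val (MonoidHom.mem_ker.1 h1)
  exact (commutatorElement_eq_one_iff_mul_comm.1 h2).symm

/-- A composite of central extensions of a perfect group has central kernel. -/
theorem ker_comp_central {A B C : Type*} [Group A] [Group B] [Group C] (hperf : commutator A = ⊤)
    {f : A →* B} (hfs : Function.Surjective f) (hf : f.ker ≤ Subgroup.center A) {g : B →* C}
    (hg : g.ker ≤ Subgroup.center B) : (g.comp f).ker ≤ Subgroup.center A := by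
  intro z hz
  refine central_of_perfect hperf fun a => hf ?_
  rw [MonoidHom.mem_ker, map_commutatorElement, commutatorElement_eq_one_iff_mul_comm]
  exact (Subgroup.mem_center_iff.1 (hg (MonoidHom.mem_ker.2 (by simpa using hz))) (f a)).symm

end CfsgLib.Chev.ScCover
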