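import Cfsg.Agent.Lib.KnownSimple.SteinbergCover.Universal

/-!
# Central extensions of exponent invertible in the field; projective representations
-/

set_option autoImplicit false

namespace CfsgLib.Chev.ScCover

open Cfsg.Lie CfsgLib.Chev.Lift CfsgLib.Known.CentralComm
open scoped commutatorElement

universe v w

variable {D : ChevalleyDatum} {co : ℕ → ℕ → ℤ} {K : Type v} [Field K] {X : Type w} [Group X]
  {σ : X →* D.SteinbergGroup K}
  (hσ : Function.Surjective σ) (hc : σ.ker ≤ Subgroup.center X)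
  (hF : Facts D co) {φ : D.SteinbergGroup K →* GL D.Idx K} (hφ : IsTheta D φ)
  {m : ℕ} (hm : (m : K) ≠ 0) (hker : ∀ z ∈ σ.ker, z ^ m = 1)

include hm hker in
/-- An additive map of the field into the kernel is trivial. -/
theorem eq_one_of_additive (f : K → X) (hf : ∀ a b, f (a + b) = f a * f b)
    (hmem : ∀ t, f t ∈ σ.ker) (t : K) : f t = 1 := by
  have h0 : f 0 = 1 := by
    have := hf 0 0
    rw [add_zero] at this
    exact left_eq_mul.1 this
  have hn : ∀ (k : ℕ) (a : K), f ((k : K) * a) = f a ^ k := by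
    intro k a
    induction k with
    | zero => simp [h0]
    | succ k ih => rw [Nat.cast_succ, add_mul, one_mul, hf, ih, pow_succ]
  rw [show t = (m : K) * (t / (m : K)) by field_simp, hn, hker _ (hmem _)]

theorem stGen_npow {r : ℕ} (hr : r < D.nroots) (t : K) (k : ℕ) :
    D.stGen K r t ^ k = D.stGen K r ((k : K) * t) := by
  induction k with
  | zero => simp [stGen_zero hr]
  | succ k ih => rw [pow_succ, ih, stGen_add hr, Nat.cast_succ, add_mul, one_mul]

include hσ hc hF hm hker in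
/-- Additive lifts of the root subgroups. -/
theorem exists_fam_exponent : ∃ e : ℕ → K → X, IsRootFam σ e := by
  classical
  let x := fun (r : ℕ) (t : K) => pre hσ (D.stGen K r t)
  refine ⟨fun r t => x r (t / (m : K)) ^ m, fun r hr t => ?_, fun r hr t u => ?_⟩
  · simp only [x, map_pow, σ_pre, stGen_npow hr]
    congr 1
    field_simp
  · have hcm : Cm D K r r := fun a b => by
      show _ = _
      rw [stGen_add hr, stGen_add hr, add_comm]
    have hone : ∀ a b, cm hσ (D.stGen K r a) (D.stGen K r b) = 1 := fun a b =>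
      eq_one_of_additive (σ := σ) hm hker (fun v => cm hσ (D.stGen K r v) (D.stGen K r b))
        (fun v v' => cm_gen_add_left hσ hc hF hr hcm v v' b)
        (fun v => MonoidHom.mem_ker.2 (by
          rw [σ_cm, commutatorElement_eq_one_iff_mul_comm]
          exact (hcm v b).eq)) a
    have hcomm : Commute (x r (t / (m : K))) (x r (u / (m : K))) :=
      commute_of_cm hσ hc (σ_pre hσ _) (σ_pre hσ _) (hone _ _)
    set a := x r (t / (m : K))
    set b := x r (u / (m : K))
    set z := (a * b)⁻¹ * x r ((t + u) / (m : K)) with hz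
    have hzk : z ∈ σ.ker := by
      rw [MonoidHom.mem_ker, hz, map_mul, map_inv, map_mul]
      simp only [a, b, x, σ_pre, stGen_add hr, add_div, inv_mul_cancel]
    have hzc : Commute (a * b) z := Subgroup.mem_center_iff.1 (hc hzk) _
    show x r ((t + u) / (m : K)) ^ m = a ^ m * b ^ m
    rw [show x r ((t + u) / (m : K)) = a * b * z by rw [hz, mul_inv_cancel_left], hzc.mul_pow,
      hker z hzk, mul_one, hcomm.mul_pow]

include hc hF hφ hm hker in
theorem relAt_exponent {e : ℕ → K → X} (hA : IsRootFam σ e) (hcl : ClosedCert D) :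
    ∀ r s, OkPair D r s → RelAt D e r s := by
  suffices ∀ n r s, OkPair D r s → (D.commTerms r s).length = n → RelAt D e r s from
    fun r s h => this _ r s h rfl
  intro n
  induction n using Nat.strong_induction_on with
  | _ n ih =>
  intro r s hok hn
  obtain ⟨hr, hs, hsr, hsn⟩ := id hok
  let W : K → K → X := fun t u => eW e (cwR D r s t u)
  let δ : K → K → X := fun t u => (e s u)⁻¹ * (e r t)⁻¹ * e s u * e r t * (W t u)⁻¹
  have hbound : ∀ p ∈ termRoots D r s, p < D.nroots := fun p hp => by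
    obtain ⟨c, hc', rfl⟩ := List.mem_map.1 hp
    exact (hF.commTerms_wt hF.isWeight_omega hr hs hc').1
  have hσW : ∀ t u, σ (W t u) = stW D (cwR D r s t u) := fun t u => σ_eW hA fun p hp => by
    obtain ⟨c, hc', rfl⟩ := List.mem_map.1 hp
    exact (hF.commTerms_wt hF.isWeight_omega hr hs hc').1
  have hδker : ∀ t u, δ t u ∈ σ.ker := by
    intro t u
    rw [MonoidHom.mem_ker]
    simp only [δ, map_mul, map_inv, hσW, hA.proj r hr, hA.proj s hs]
    rw [mul_assoc _ (D.stGen K s u), stGen_comm hr hs hsr hsn]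
    group
  have hcen : ∀ t u (a : X), a * δ t u = δ t u * a :=
    fun t u a => Subgroup.mem_center_iff.1 (hc (hδker t u)) a
  have hδ : ∀ t u, (e s u)⁻¹ * (e r t)⁻¹ * e s u * e r t = δ t u * W t u := fun t u => by
    simp only [δ, inv_mul_cancel_right]
  suffices hone : ∀ t u, δ t u = 1 by
    intro t u
    have h := hδ t u
    rw [hone, one_mul] at h
    show e s u * e r t = e r t * e s u * W t u
    rw [← h]
    group
  obtain ⟨f1, hf1, hf1r, hf1s, -⟩ := hF.exists_halfspace hr hs hsr hsn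
  obtain ⟨f2, hf2, hf2s, hf2r, -⟩ := hF.exists_halfspace hs hr (Ne.symm hsr)
    (fun e' => hsn (by rw [e', hF.neg_neg hs]))
  have hf : IsWeight D (fun x => f1 x + f2 x) :=
    ⟨fun x hx => by simp only [hf1.neg x hx, hf2.neg x hx]; ring,
      fun x hx y hy z hz => by simp only [hf1.add x hx y hy z hz, hf2.add x hx y hy z hz]; ring⟩
  set P := eCl D e (fun p => p ∈ r :: termRoots D r s)
  have hpos : ∀ p ∈ r :: termRoots D r s, 0 < f1 p + f2 p := by
    intro p hp
    rcases List.mem_cons.1 hp with rfl | hp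
    · omega
    · obtain ⟨c, hc', rfl⟩ := List.mem_map.1 hp
      obtain ⟨-, hi, hj, hw⟩ := hF.commTerms_wt hf hr hs hc'
      simp only [nsmul_eq_mul] at hw
      have hra : 0 < f1 r + f2 r := by omega
      have hsa : 0 < f1 s + f2 s := by omega
      rw [hw]; positivity
  have hinj : ∀ {g g' : X}, g ∈ P → g' ∈ P → σ g = σ g' → g = g' := by
    intro g g' hg hg' hgg
    refine eCl_injective hA hF hφ hf (fun p _ hp => hpos p hp) (fun p hp q hq hPp hPq hne => ?_)
      hg hg' hgg
    obtain ⟨hc1, hc2⟩ := hcl r s hok r (Or.inl rfl) p hPp q hPq (Ne.symm hne)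
    refine ⟨ih _ (hn ▸ hc2) p q ⟨hp, hq, Ne.symm hne, fun e' => ?_⟩ rfl, hc1⟩
    have h0 := hpos q hPq
    rw [e', hf1.neg p hp, hf2.neg p hp] at h0
    have := hpos p hPp
    omega
  have hWmem : ∀ v u, W v u ∈ P := fun v u => eW_mem fun p hp => by
    obtain ⟨c, hc', rfl⟩ := List.mem_map.1 hp
    have hmem : c.1 ∈ termRoots D r s := List.mem_map_of_mem hc'
    exact mem_eCl (hbound _ hmem) (List.mem_cons_of_mem _ hmem) _
  intro t u
  refine eq_one_of_additive (σ := σ) hm hker (fun v => δ v u) (fun a b => ?_) (fun v => hδker v u) t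
  have hC : ∀ v, (e s u)⁻¹ * e r (-v) * e s u = δ v u * (W v u * e r (-v)) := fun v => by
    rw [← mul_assoc, ← hδ, fam_inv hA hr, ← fam_inv hA hr v]
    group
  have hX : ∀ v, W v u * e r (-v) ∈ P := fun v =>
    Subgroup.mul_mem _ (hWmem v u) (mem_eCl hr (by simp) _)
  have e1 : δ (a + b) u * (W (a + b) u * e r (-(a + b))) =
      δ a u * δ b u * (W a u * e r (-a) * (W b u * e r (-b))) := by
    rw [← hC, neg_add, hA.add r hr, show (e s u)⁻¹ * (e r (-a) * e r (-b)) * e s u =
      ((e s u)⁻¹ * e r (-a) * e s u) * ((e s u)⁻¹ * e r (-b) * e s u) by group, hC, hC,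
      mul_assoc (δ a u), ← mul_assoc (W a u * e r (-a)) (δ b u), hcen b u]
    simp only [mul_assoc]
  have e2 : W (a + b) u * e r (-(a + b)) = W a u * e r (-a) * (W b u * e r (-b)) := by
    refine hinj (hX _) (Subgroup.mul_mem _ (hX a) (hX b)) ?_
    have := congrArg σ e1
    simpa [map_mul, MonoidHom.mem_ker.1 (hδker _ _)] using this
  rw [e2] at e1
  exact mul_right_cancel e1

include hσ hc hm hker in
theorem exists_lift_exponent
    (hD : D ∈ [chevG2, chevB2, chevD4, chevF4, chevE6, chevE7, chevE8]) :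
    ∃ h : D.SteinbergCover K →* X, σ.comp h = toSt D K := by
  obtain ⟨⟨co, hF⟩, hC⟩ := good_of_mem.{v} hD
  obtain ⟨φ, hφ⟩ := hF.exists_theta hC (K := K)
  obtain ⟨e, hA⟩ := exists_fam_exponent hσ hc hF hm hker
  obtain ⟨h, -, hh⟩ := exists_hom_of_family hF hA
    (relAt_exponent hc hF hφ hm hker hA (bigCert_of_mem hD).closed)
  exact ⟨h, hh⟩

/-- An exponent for `n`-th roots of unity which is invertible in `K`. -/
theorem exists_root_exponent {L : Type*} [Field L] (hL : ringChar L = ringChar K) {n : ℕ} (hn : n ≠ 0) :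
    ∃ k : ℕ, (k : K) ≠ 0 ∧ ∀ c : L, c ^ n = 1 → c ^ k = 1 := by
  obtain ⟨p, hp⟩ : ∃ p, p = ringChar K := ⟨_, rfl⟩
  haveI : CharP K p := hp ▸ ringChar.charP K
  haveI : CharP L p := hp ▸ hL ▸ ringChar.charP L
  rcases CharP.char_is_prime_or_zero K p with hpp | rfl
  · obtain ⟨a, k, hk, rfl⟩ := Nat.exists_eq_pow_mul_and_not_dvd hn p hpp.ne_one
    haveI : ExpChar L p := ExpChar.prime hpp
    exact ⟨k, fun h => hk ((CharP.cast_eq_zero_iff K p k).1 h),
      fun c hc' => (ExpChar.pow_prime_pow_mul_eq_one_iff p a k c).1 hc'⟩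
  · exact ⟨n, fun h => hn (zero_dvd_iff.1 ((CharP.cast_eq_zero_iff K 0 n).1 h)), fun _ h => h⟩

/-- Projective representations in the same characteristic lift uniquely. -/
theorem existsUnique_projective_lift
    (hD : D ∈ [chevG2, chevB2, chevD4, chevF4, chevE6, chevE7, chevE8])
    (hK : D ∈ [chevB2, chevG2] → ∃ x : K, x ≠ 0 ∧ x ≠ 1)
    (θ : D.SteinbergCover K →* ↥(D.group K))
    (hθ : ∀ (r : ℕ) (t : K), r < D.nroots →
      ((θ (D.scGen K r t) : GL D.Idx K) : Matrix D.Idx D.Idx K) = D.x K r t)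
    {L : Type*} [Field L] (hL : ringChar L = ringChar K) {n : ℕ}
    (φ : ↥(D.group K) →* GL (Fin n) L ⧸ Subgroup.center (GL (Fin n) L)) :
    ∃! ψ : D.SteinbergCover K →* GL (Fin n) L,
      (QuotientGroup.mk' (Subgroup.center (GL (Fin n) L))).comp ψ = φ.comp θ := by
  have hperf := perfect_of_mem hD hK
  obtain ⟨⟨co, hF⟩, hC⟩ := good_of_mem.{v} hD
  obtain ⟨θS, -, -, hv⟩ := hF.exists_surj hC (hasNbr_of_mem hD) (K := K)
  have hθeq : θ = θS.comp (toSt D K) := PresentedGroup.ext fun ⟨⟨r, hr⟩, t⟩ => by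
    refine Subtype.ext (Units.ext ?_)
    rw [scGen_of hr, hθ r t hr, MonoidHom.comp_apply, toSt_gen, hv r t hr]
  have hSt : commutator (D.SteinbergGroup K) = ⊤ := by
    rw [commutator_def, ← Subgroup.map_top_of_surjective (toSt D K) toSt_surjective,
      ← Subgroup.map_commutator, ← commutator_def, hperf]
  set Z := Subgroup.center (GL (Fin n) L)
  let mk := QuotientGroup.mk' Z
  let X0 : Subgroup (D.SteinbergGroup K × GL (Fin n) L) :=
    MonoidHom.eqLocus ((φ.comp θS).comp (MonoidHom.fst _ _)) (mk.comp (MonoidHom.snd _ _))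
  let p0 : ↥X0 →* D.SteinbergGroup K := (MonoidHom.fst _ _).comp X0.subtype
  have hp0 : Function.Surjective p0 := fun x => by
    obtain ⟨y, hy⟩ := QuotientGroup.mk'_surjective Z (φ (θS x))
    exact ⟨⟨(x, y), hy.symm⟩, rfl⟩
  have hsnd : ∀ z : ↥X0, p0 z = 1 → z.1.2 ∈ Z := fun z hz => by
    have h1 : z.1.1 = 1 := hz
    have h2 : φ (θS z.1.1) = mk z.1.2 := z.2
    rw [h1, map_one, map_one] at h2
    exact (QuotientGroup.eq_one_iff _).1 h2.symm
  have hc0 : p0.ker ≤ Subgroup.center ↥X0 := fun z hz => by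
    have h1 : z.1.1 = 1 := MonoidHom.mem_ker.1 hz
    exact Subgroup.mem_center_iff.2 fun g => Subtype.ext (Prod.ext
      (show g.1.1 * z.1.1 = z.1.1 * g.1.1 by rw [h1, one_mul, mul_one])
      (Subgroup.mem_center_iff.1 (hsnd z (MonoidHom.mem_ker.1 hz)) g.1.2))
  obtain ⟨hfs, hfc, hfp⟩ := perfect_commutator hp0 hc0 hSt
  set f := p0.comp (commutator ↥X0).subtype
  obtain ⟨k, hk, hkill⟩ : ∃ k : ℕ, (k : K) ≠ 0 ∧ ∀ z ∈ f.ker, z ^ k = 1 := by
    rcases Nat.eq_zero_or_pos n with rfl | hn
    · refine ⟨1, by simp, fun z hz => ?_⟩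
      rw [pow_one]
      exact Subtype.ext (Subtype.ext (Prod.ext (MonoidHom.mem_ker.1 hz : z.1.1.1 = 1)
        (Units.ext (Matrix.ext fun i => i.elim0))))
    · obtain ⟨k, hk, hk'⟩ := exists_root_exponent (K := K) hL hn.ne'
      refine ⟨k, hk, fun z hz => ?_⟩
      have h1 : z.1.1.1 = 1 := MonoidHom.mem_ker.1 hz
      obtain ⟨c, hcc⟩ := Matrix.GeneralLinearGroup.mem_center_iff_val_mem_range_scalar.1 (hsnd z.1 h1)
      have hdet : (Matrix.GeneralLinearGroup.det z.1.1.2 : Lˣ) = 1 := by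
        refine (MonoidHom.mem_ker (f := Matrix.GeneralLinearGroup.det.comp
          ((MonoidHom.snd _ _).comp X0.subtype))).1 ?_
        refine (?_ : commutator ↥X0 ≤ _) z.2
        exact Abelianization.commutator_subset_ker _
      have hcn : c ^ n = 1 := by
        have := congrArg Units.val hdet
        simp only [Matrix.GeneralLinearGroup.val_det_apply, ← hcc, Units.val_one,
          Matrix.scalar_apply, Matrix.det_diagonal, Finset.prod_const, Finset.card_univ,
          Fintype.card_fin] at this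
        exact this
      refine Subtype.ext (Subtype.ext (Prod.ext ?_ (Units.ext ?_)))
      · show (z.1.1.1) ^ k = 1
        rw [h1, one_pow]
      · show ((z.1.1.2 ^ k : GL (Fin n) L) : Matrix (Fin n) (Fin n) L) = 1
        rw [Units.val_pow_eq_pow_val, ← hcc, ← map_pow, hk' c hcn, map_one]
  obtain ⟨h, hh⟩ := exists_lift_exponent hfs hfc hk hkill hD
  have hfst : ∀ a, (h a).1.1.1 = toSt D K a := fun a => DFunLike.congr_fun hh a
  have hpr : ∀ a, mk (h a).1.1.2 = φ (θ a) := fun a => by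
    have h2 : φ (θS (h a).1.1.1) = mk (h a).1.1.2 := (h a).1.2
    rw [← h2, hfst, hθeq]
    rfl
  refine ⟨(MonoidHom.snd _ _).comp (X0.subtype.comp ((commutator ↥X0).subtype.comp h)),
    MonoidHom.ext hpr, fun ψ hψ => eq_of_central_diff hperf fun a => ?_⟩
  refine (QuotientGroup.eq_one_iff _).1 ?_
  show mk ((ψ a)⁻¹ * (h a).1.1.2) = 1
  rw [map_mul, map_inv, hpr, inv_mul_eq_one]
  exact DFunLike.congr_fun hψ a

end CfsgLib.Chev.ScCover
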