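import Cfsg.Agent.Lib.Known.ChevLift.TorusFam

/-!
# The torus arguments over an infinite or large field
-/

set_option autoImplicit false
set_option linter.unusedSectionVars false

namespace CfsgLib.Chev.ScCover

open Cfsg.Lie CfsgLib.Chev.Lift CfsgLib.Known.CentralComm
open scoped commutatorElement

universe v w

variable {D : ChevalleyDatum} {co : ℕ → ℕ → ℤ} {K : Type v} [Field K]

theorem exists_unit_pow_ne_one (hq : ∃ S : Finset K, 4 < S.card) {n : ℕ} (hn : 0 < n) (hn3 : n ≤ 3) :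
    ∃ x : Kˣ, x ^ n ≠ 1 := by
  classical
  obtain ⟨S, hS⟩ := hq
  by_contra hall
  push Not at hall
  have h1 : (S.erase 0).val ⊆ Polynomial.nthRoots n (1 : K) := by
    intro x hx
    have hx0 : x ≠ 0 := (Finset.mem_erase.1 (Finset.mem_def.2 hx)).1
    rw [Polynomial.mem_nthRoots hn]
    simpa using congrArg Units.val (hall (Units.mk0 x hx0))
  have h2 : (S.erase 0).card ≤ Multiset.card (Polynomial.nthRoots n (1 : K)) :=
    (Finset.card_le_card (t := (Polynomial.nthRoots n (1 : K)).toFinset)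
      (fun x hx => Multiset.mem_toFinset.2 (h1 hx))).trans (Multiset.toFinset_card_le _)
  have h3 := Polynomial.card_nthRoots n (1 : K)
  have h4 : S.card ≤ (S.erase 0).card + 1 := by
    have := Finset.pred_card_le_card_erase (s := S) (a := (0 : K))
    omega
  omega

theorem exists_unit_zpow_ne_one (hq : ∃ S : Finset K, 4 < S.card) {z : ℤ} (hz : z ≠ 0)
    (hz3 : z.natAbs ≤ 3) : ∃ x : Kˣ, x ^ z ≠ 1 := by
  obtain ⟨x, hx⟩ := exists_unit_pow_ne_one hq (Int.natAbs_pos.2 hz) hz3
  refine ⟨x, fun hx' => hx ?_⟩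
  rcases Int.natAbs_eq z with he | he <;> rw [he] at hx' <;> simpa using hx'

theorem sepK_big (hq : ∃ S : Finset K, 4 < S.card) {m r s : ℕ} (hm : m ≤ 3) (h : SepCert D m r s) :
    SepK D K r s := by
  obtain ⟨k, hk, h0, h1, h2⟩ := h
  obtain ⟨x, hx⟩ := exists_unit_zpow_ne_one hq h1 (h2.trans hm)
  exact ⟨k, hk, x, by rw [h0, zpow_zero], hx⟩

variable {E : Type w} [Group E] {σ : E →* D.SteinbergGroup K}
  (hσ : Function.Surjective σ) (hc : σ.ker ≤ Subgroup.center E)
  (hF : Facts D co) (hN : HasNbr D) {φ : D.SteinbergGroup K →* GL D.Idx K} (hφ : IsTheta D φ)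
include hc hF hN hφ

theorem cm_self_unit_big (hq : ∃ S : Finset K, 4 < S.card) {r : ℕ} (hr : r < D.nroots)
    (hu : UnitPairing D r) (t u : K) : cm hσ (D.stGen K r t) (D.stGen K r u) = 1 := by
  classical
  obtain ⟨k, hk, hk1⟩ := hu
  have hcm : Cm D K r r := fun a b => by
    show _ = _
    rw [stGen_add hr, stGen_add hr, add_comm]
  set f := fun a b : K => cm hσ (D.stGen K r a) (D.stGen K r b) with hf
  have hadd : ∀ a a' b, f (a + a') b = f a b * f a' b := cm_gen_add_left hσ hc hF hr hcm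
  have hsymm : ∀ a b, (f a b)⁻¹ = f b a := fun a b => cm_inv hσ _ _
  have hscale : ∀ a b (l : Kˣ), f (l * a) (l * b) = f a b := by
    intro a b l
    show cm hσ _ _ = cm hσ _ _
    conv_rhs => rw [← cm_conj_eq hσ hc (hcm a b) (stHG D k (l : K)), stHG_conj hF hN hφ hk l hr,
      stHG_conj hF hN hφ hk l hr, hk1, zpow_one]
  have hcomm : ∀ a b c d, f a b * f c d = f c d * f a b := fun a b c d => by
    exact (cm_central hσ hc (hcm a b) (f c d)).symm
  have hadd' : ∀ a b b', f a (b + b') = f a b * f a b' := fun a b b' => by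
    rw [← hsymm (b + b') a, hadd, mul_inv_rev, hsymm, hsymm, hcomm]
  let g : K → E := f 1
  have hg : ∀ a b, g (a + b) = g a * g b := hadd' 1
  have hg0 : g 0 = 1 := by
    have := hg 0 0
    rw [add_zero] at this
    exact left_eq_mul.1 this
  have hdiv : ∀ a b, a ≠ 0 → f a b = g (b / a) := fun a b ha => by
    have := hscale 1 (b / a) (Units.mk0 a ha)
    rw [Units.val_mk0, mul_one, mul_div_cancel₀ _ ha] at this
    exact this
  obtain ⟨x, hx0, hx1, hx2⟩ : ∃ x : K, x ≠ 0 ∧ x + 1 ≠ 0 ∧ x ^ 2 + x + 1 ≠ 0 := by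
    by_contra hall
    push Not at hall
    let P : Polynomial K := Polynomial.X * (Polynomial.X + Polynomial.C 1) *
      (Polynomial.X ^ 2 + Polynomial.X + Polynomial.C 1)
    have hd : P.natDegree ≤ 4 := by
      simp only [P]
      compute_degree
    have hne : P ≠ 0 := by
      refine mul_ne_zero (mul_ne_zero Polynomial.X_ne_zero (Polynomial.X_add_C_ne_zero 1)) fun h => ?_
      have := congrArg (Polynomial.eval 0) h
      simp at this
    obtain ⟨S, hS⟩ := hq
    have hroots : S.val ⊆ P.roots := by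
      intro x _
      rw [Polynomial.mem_roots hne, Polynomial.IsRoot]
      simp only [P, Polynomial.eval_mul, Polynomial.eval_add, Polynomial.eval_pow, Polynomial.eval_X,
        Polynomial.eval_C]
      by_cases h0 : x = 0
      · simp [h0]
      by_cases h1 : x + 1 = 0
      · simp [h1]
      · simp [hall x h0 h1]
    have := (Polynomial.card_le_degree_of_subset_roots hroots).trans hd
    omega
  have hg1 : ∀ w, g w = 1 := by
    intro w
    set v := w / (x ^ 2 + x + 1)
    have e := hadd x 1 (x * (x + 1) * v)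
    rw [hdiv _ _ hx1, hdiv _ _ hx0, show f 1 (x * (x + 1) * v) = g (x * (x + 1) * v) from rfl,
      show x * (x + 1) * v / (x + 1) = x * v by field_simp,
      show x * (x + 1) * v / x = (x + 1) * v by field_simp, ← hg,
      show (x + 1) * v + x * (x + 1) * v = x * v + (x ^ 2 + x + 1) * v by ring, hg] at e
    rw [show w = (x ^ 2 + x + 1) * v by rw [mul_div_cancel₀ _ hx2]]
    exact left_eq_mul.1 e
  show f t u = 1
  by_cases ht : t = 0
  · subst ht
    show cm hσ _ _ = 1
    rw [stGen_zero hr, cm_one_left hσ hc]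
  · rw [hdiv t u ht, hg1]

theorem cm_self_gen_big (hq : ∃ S : Finset K, 4 < S.card) {r : ℕ} (hr : r < D.nroots) {ev : Bool}
    (hev : ev = true → (2 : K) = 0) (hG : GenCert D ev r) (t u : K) :
    cm hσ (D.stGen K r t) (D.stGen K r u) = 1 := by
  classical
  obtain ⟨a, b, ⟨k, C, i, j⟩, ⟨⟨ha, hb, hab, hab'⟩, hmem, hk, hi, hC, hnd⟩, hsep⟩ := hG
  dsimp only at hk hi hC
  subst hk hi
  set H := cCent hσ (D.stGen K k t)
  have hne : a ≠ k ∧ b ≠ k := by
    obtain ⟨f1, hf1, hf1a, hf1b, -⟩ := hF.exists_halfspace ha hb hab hab'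
    obtain ⟨f2, hf2, hf2b, hf2a, -⟩ := hF.exists_halfspace hb ha (Ne.symm hab)
      (fun e' => hab' (by rw [e', hF.neg_neg hb]))
    obtain ⟨-, -, hj, h1⟩ := hF.commTerms_wt hf1 ha hb hmem
    obtain ⟨-, -, -, h2⟩ := hF.commTerms_wt hf2 ha hb hmem
    dsimp only at h1 h2 hj
    simp only [nsmul_eq_mul, hf1a, hf2b, mul_zero, zero_add, add_zero, Nat.cast_one, one_mul] at h1 h2
    refine ⟨fun e' => ?_, fun e' => ?_⟩
    · rw [← e', hf1a] at h1
      rcases mul_eq_zero.1 h1.symm with h | h <;> omega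
    · rw [← e', hf2b] at h2; omega
  have hin : ∀ s ∈ a :: b :: termRoots D a b, s ≠ k → ∀ w, D.stGen K s w ∈ H := by
    intro s hs hsk w
    obtain ⟨hok, hn1, -, hsp⟩ := hsep s hs hsk
    refine mem_cCent hσ hc (cm_sep hσ hc hF hN hφ hr hok.2.1 (cm_of_null hok (fun c hc' => ?_) hF)
      (hsp.imp (sepK_big hq (by norm_num)) (sepK_big hq (by norm_num))) t w)
    obtain ⟨he, hd⟩ := hn1 c hc'
    obtain ⟨z, hz⟩ := hd
    rw [hz, Int.cast_mul, Int.cast_ofNat, hev he, zero_mul]
  obtain ⟨L1, L2, hsplit⟩ := List.append_of_mem hmem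
  obtain ⟨T, hT⟩ : ∃ T : K, (C : K) * (-T) ^ 1 * (1 : K) ^ j = u := by
    rcases hC with rfl | rfl
    · exact ⟨-u, by simp⟩
    · exact ⟨u, by simp⟩
  have hrel := stGen_comm ha hb hab hab' T (1 : K)
  have hW : stW D (cwR D a b T 1) ∈ H := by
    rw [show stW D (cwR D a b T 1) = (D.stGen K b 1)⁻¹ * (D.stGen K a T)⁻¹ *
      (D.stGen K b 1 * D.stGen K a T) by rw [hrel]; group]
    have hA := hin a (by simp) hne.1 T
    have hB := hin b (by simp) hne.2 1
    exact mul_mem (mul_mem (inv_mem hB) (inv_mem hA)) (mul_mem hB hA)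
  rw [cwR, hsplit, List.map_append, List.map_cons, stW, List.map_append, List.map_cons,
    List.prod_append, List.prod_cons, hT] at hW
  rw [termRoots, hsplit, List.map_append, List.map_cons, List.nodup_append] at hnd
  have hside : ∀ L : List (ℕ × ℤ × ℕ × ℕ), (∀ d ∈ L, d.1 ∈ termRoots D a b ∧ d.1 ≠ k) →
      ((L.map fun c => (c.1, (c.2.1 : K) * (-T) ^ c.2.2.1 * (1 : K) ^ c.2.2.2)).map
        fun p => D.stGen K p.1 p.2).prod ∈ H := by
    intro L hL
    refine Subgroup.list_prod_mem _ fun g hg => ?_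
    obtain ⟨p, hp, rfl⟩ := List.mem_map.1 hg
    obtain ⟨d, hd, rfl⟩ := List.mem_map.1 hp
    exact hin d.1 (List.mem_cons_of_mem _ (List.mem_cons_of_mem _ (hL d hd).1)) (hL d hd).2 _
  have h1 := hside L1 fun d hd => ⟨by rw [termRoots, hsplit]; exact List.mem_map_of_mem (by simp [hd]),
    fun e' => hnd.2.2 d.1 (List.mem_map_of_mem hd) k (by simp) e'⟩
  have h2 := hside L2 fun d hd => ⟨by rw [termRoots, hsplit]; exact List.mem_map_of_mem (by simp [hd]),
    fun e' => by
      have hd1 : d.1 ∈ List.map Prod.fst L2 := List.mem_map_of_mem hd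
      rw [e'] at hd1
      exact (List.nodup_cons.1 hnd.2.1).1 hd1⟩
  refine cm_of_mem_cCent hσ hc ?_
  rwa [Subgroup.mul_mem_cancel_left _ h1, Subgroup.mul_mem_cancel_right _ h2] at hW

end CfsgLib.Chev.ScCover
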