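import Cfsg.Agent.Lib.KnownSimple.SteinbergCover.CentralTools
import Cfsg.Agent.Lib.KnownSimple.SteinbergCover.SelfComm
import Cfsg.Agent.Lib.KnownSimple.SteinbergCover.BigCerts

/-!
# Universality of the group presented by (R1), (R2)
-/

set_option autoImplicit false

namespace CfsgLib.Chev.ScCover

open Cfsg.Lie CfsgLib.Chev.Lift CfsgLib.Known.CentralComm
open scoped commutatorElement

universe v w

variable {D : ChevalleyDatum} {K : Type v} [Field K]

/-- A family with both relations gives a map out of the presented group. -/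
theorem exists_hom_of_family {co : ℕ → ℕ → ℤ} (hF : Facts D co) {E : Type w} [Group E]
    {σ : E →* D.SteinbergGroup K} {e : ℕ → K → E} (hA : IsRootFam σ e)
    (hR : ∀ r s, OkPair D r s → RelAt D e r s) :
    ∃ h : D.SteinbergCover K →* E,
      (∀ r < D.nroots, ∀ t, h (D.scGen K r t) = e r t) ∧ σ.comp h = toSt D K := by
  have hX : ∀ r, r < D.nroots → ∀ t : K,
      FreeGroup.lift (fun p : Fin D.nroots × K => e p.1.val p.2) (D.stX r t) = e r t :=
    fun r hr t => by simp [ChevalleyDatum.stX, hr]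
  have key : ∀ g ∈ D.steinbergRelsAB K,
      FreeGroup.lift (fun p : Fin D.nroots × K => e p.1.val p.2) g = 1 := by
    rintro g (⟨r, t₁, t₂, hr, rfl⟩ | ⟨r, s, t, u, hr, hs, hsr, hsn, rfl⟩)
    · rw [map_mul, map_mul, map_inv, hX r hr, hX r hr, hX r hr, ← hA.add r hr, mul_inv_cancel]
    · rw [map_mul, map_mul, map_mul, map_mul, map_inv, map_inv, map_inv, hX s hs, hX r hr]
      change _ * (FreeGroup.lift _ (D.stWord (cwR D r s t u)))⁻¹ = 1
      have hW : FreeGroup.lift (fun p : Fin D.nroots × K => e p.1.val p.2) (D.stWord (cwR D r s t u)) =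
          eW e (cwR D r s t u) := by
        rw [ChevalleyDatum.stWord, map_list_prod, List.map_map, eW]
        refine congrArg List.prod (List.map_congr_left fun p hp => ?_)
        obtain ⟨c, hc, rfl⟩ := List.mem_map.1 hp
        exact hX _ (hF.commTerms_wt hF.isWeight_omega hr hs hc).1 _
      rw [hW, mul_assoc _ (e s u), hR r s ⟨hr, hs, hsr, hsn⟩ t u]
      group
  refine ⟨PresentedGroup.toGroup key, fun r hr t => ?_, PresentedGroup.ext fun ⟨⟨r, hr⟩, t⟩ => ?_⟩
  · rw [← scGen_of hr]
    exact PresentedGroup.toGroup.of key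
  · rw [MonoidHom.comp_apply, PresentedGroup.toGroup.of, hA.proj r hr, scGen_of hr, toSt_gen]

variable (hD : D ∈ [chevG2, chevB2, chevD4, chevF4, chevE6, chevE7, chevE8])
  (hq : ∃ S : Finset K, 4 < S.card)
include hD hq

/-- Over a field with more than four elements the presented group maps to every central extension of the
Steinberg group. -/
theorem exists_lift {X : Type w} [Group X] {σ : X →* D.SteinbergGroup K}
    (hσ : Function.Surjective σ) (hc : σ.ker ≤ Subgroup.center X) :
    ∃ h : D.SteinbergCover K →* X, σ.comp h = toSt D K := by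
  obtain ⟨⟨co, hF⟩, hC⟩ := good_of_mem.{v} hD
  obtain ⟨φ, hφ⟩ := hF.exists_theta hC (K := K)
  have hN := hasNbr_of_mem hD
  have hB := bigCert_of_mem hD
  have hmove : ∀ r < D.nroots, ∃ k < D.nroots, ∃ x : Kˣ, x ^ prE D k r ≠ 1 := fun r hr => by
    obtain ⟨k, hk, h1, h2⟩ := hB.moving r hr
    exact ⟨k, hk, exists_unit_zpow_ne_one hq h1 h2⟩
  obtain ⟨e, hA, hT⟩ := exists_rootFam hσ hc hF hN hφ hmove fun r hr t u => by
    rcases hB.self r hr with hu | hg
    · exact cm_self_unit_big hσ hc hF hN hφ hq hr hu t u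
    · exact cm_self_gen_big hσ hc hF hN hφ hq hr (by simp) hg t u
  have hR := relAt_all hσ hc hF hφ hA hT hB.closed fun r s hok =>
    (hB.pair r s hok).imp (sepK_big hq le_rfl) fun h => Or.inl (sepK_big hq le_rfl h)
  obtain ⟨h, -, hh⟩ := exists_hom_of_family hF hA hR
  exact ⟨h, hh⟩

/-- The presented group is centrally closed. -/
theorem existsUnique_lift {G₁ E : Type*} [Group G₁] [Group E] (π₁ : E →* G₁)
    (hπ : Function.Surjective π₁) (hc : π₁.ker ≤ Subgroup.center E)
    (σ : D.SteinbergCover K →* G₁) :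
    ∃! τ : D.SteinbergCover K →* E, π₁.comp τ = σ := by
  have hK : D ∈ [chevB2, chevG2] → ∃ x : K, x ≠ 0 ∧ x ≠ 1 := fun _ => by
    obtain ⟨x, hx⟩ := exists_unit_pow_ne_one hq one_pos (by norm_num)
    exact ⟨x, x.ne_zero, fun e => hx (by rw [pow_one]; exact Units.ext e)⟩
  have hperf := perfect_of_mem hD hK
  obtain ⟨⟨co, hF⟩, hC⟩ := good_of_mem.{v} hD
  obtain ⟨φ, hφ⟩ := hF.exists_theta hC (K := K)
  have hN := hasNbr_of_mem hD
  have hL := linCert_of_mem hD
  let E0 : Subgroup (D.SteinbergCover K × E) :=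
    MonoidHom.eqLocus (σ.comp (MonoidHom.fst _ _)) (π₁.comp (MonoidHom.snd _ _))
  let p0 : ↥E0 →* D.SteinbergCover K := (MonoidHom.fst _ _).comp E0.subtype
  have hp0 : Function.Surjective p0 := fun x => by
    obtain ⟨y, hy⟩ := hπ (σ x)
    exact ⟨⟨(x, y), hy.symm⟩, rfl⟩
  have hc0 : p0.ker ≤ Subgroup.center ↥E0 := by
    intro z hz
    have h1 : z.1.1 = 1 := MonoidHom.mem_ker.1 hz
    have h2 : z.1.2 ∈ Subgroup.center E := hc (MonoidHom.mem_ker.2 (by
      have h3 : σ z.1.1 = π₁ z.1.2 := z.2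
      rw [← h3, h1, map_one]))
    exact Subgroup.mem_center_iff.2 fun g => Subtype.ext (Prod.ext
      (show g.1.1 * z.1.1 = z.1.1 * g.1.1 by rw [h1, one_mul, mul_one])
      (Subgroup.mem_center_iff.1 h2 g.1.2))
  obtain ⟨hfs, hfc, hfp⟩ := perfect_commutator hp0 hc0 hperf
  set f := p0.comp (commutator ↥E0).subtype
  obtain ⟨h, hh⟩ := exists_lift hD hq (σ := (toSt D K).comp f) (toSt_surjective.comp hfs)
    (ker_comp_central hfp hfs hfc (toSt_ker_le hF hN hL hφ))
  have hid : f.comp h = MonoidHom.id _ := eq_of_central_diff hperf fun a =>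
    toSt_ker_le hF hN hL hφ (MonoidHom.mem_ker.2 (by
      have := DFunLike.congr_fun hh a
      simp only [MonoidHom.comp_apply] at this
      simp [map_mul, map_inv, this]))
  refine ⟨(MonoidHom.snd _ _).comp (E0.subtype.comp ((commutator ↥E0).subtype.comp h)),
    MonoidHom.ext fun a => ?_, fun τ hτ => eq_of_central_diff hperf fun a => hc (MonoidHom.mem_ker.2 ?_)⟩
  · have h2 : σ ((h a).1.1).1 = π₁ ((h a).1.1).2 := (h a).1.2
    have h3 : ((h a).1.1).1 = a := DFunLike.congr_fun hid a
    rw [h3] at h2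
    exact h2.symm
  · have h2 : σ ((h a).1.1).1 = π₁ ((h a).1.1).2 := (h a).1.2
    have h3 : ((h a).1.1).1 = a := DFunLike.congr_fun hid a
    rw [h3] at h2
    rw [map_mul, map_inv, show π₁ (τ a) = σ a from DFunLike.congr_fun hτ a, inv_mul_eq_one]
    exact h2

end CfsgLib.Chev.ScCover
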